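import Mathlib
import Cfsg.Agent.Lib.Helper93.M11U.Defs
import Cfsg.Agent.Lib.Helper5.PSL11Main

/-!
# S0420, package X1 (helper48)

A second subgroup `A₅` of `K` (simple of order `660`) containing `f`, different from `X0`.
-/

set_option autoImplicit false

namespace Cfsg.Agent.Lib.Helper48.M11U

open Cfsg.Agent.Lib.Helper93.M11U
open scoped Pointwise

universe u

/-- In a group of order `660`, a subgroup of order `5` is (the subgroup of) a Sylow subgroup. -/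
theorem sylow5_eq_of_card {Γ : Type u} [Group Γ] [Finite Γ] (hΓ : Nat.card Γ = 660)
    (A : Subgroup Γ) (hA : Nat.card A = 5) (P : Sylow 5 Γ) (hAP : A ≤ (P : Subgroup Γ)) :
    A = (P : Subgroup Γ) := by
  haveI : Fact (Nat.Prime 5) := ⟨by norm_num⟩
  apply Subgroup.eq_of_le_of_card_ge hAP
  obtain ⟨n, hn⟩ := IsPGroup.iff_card.mp P.2
  have hdvd : Nat.card (P : Subgroup Γ) ∣ 660 := hΓ ▸ Subgroup.card_subgroup_dvd_card _
  rw [hA, hn] at *
  have hn1 : n ≤ 1 := by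
    by_contra hcon
    push Not at hcon
    have h25 : 5 ^ 2 ∣ 660 := dvd_trans (pow_dvd_pow 5 hcon) hdvd
    norm_num at h25
  calc 5 ^ n ≤ 5 ^ 1 := Nat.pow_le_pow_right (by norm_num) hn1
    _ = 5 := by norm_num

theorem pkgX1 : PkgX1.{u} := by
  intro G _ _ T C hsimple hX0
  obtain ⟨⟨e0⟩, -, hfX0, -, -⟩ := hX0
  haveI : IsSimpleGroup ↥C.K := hsimple
  haveI : Fact (Nat.Prime 5) := ⟨by norm_num⟩
  have hX0K : X0 C ≤ C.K := inf_le_left
  obtain ⟨-, H, K', ⟨eH⟩, ⟨eK⟩, hnc, hall⟩ :=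
    Cfsg.Agent.Lib.Helper5.PSL11.count_A5 (Γ := ↥C.K) C.cardK
  have eX0' : ↥((X0 C).subgroupOf C.K) ≃* alternatingGroup (Fin 5) :=
    (Subgroup.subgroupOfEquivOfLe hX0K).trans e0
  -- `Z`: a subgroup `A₅` of `K` not conjugate to `X0`
  obtain ⟨Z, ⟨eZ⟩, hZ⟩ : ∃ Z : Subgroup ↥C.K, Nonempty (↥Z ≃* alternatingGroup (Fin 5)) ∧
      ∀ g : ↥C.K, MulAut.conj g • Z ≠ (X0 C).subgroupOf C.K := by
    obtain ⟨g0, h | h⟩ := hall ((X0 C).subgroupOf C.K) ⟨eX0'⟩
    · refine ⟨K', ⟨eK⟩, fun g hg => hnc (g0 * g)⁻¹ ?_⟩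
      have hH : H = MulAut.conj (g0 * g) • K' := by rw [map_mul, mul_smul, hg, h]
      rw [hH, map_inv, inv_smul_smul]
    · refine ⟨H, ⟨eH⟩, fun g hg => hnc (g0 * g) ?_⟩
      rw [map_mul, mul_smul, hg, h]
  -- an element of order 5 in `Z`
  have hZ60 : Nat.card Z = 60 := Cfsg.Agent.Lib.Helper5.PSL11.card_A5 Z ⟨eZ⟩
  obtain ⟨z, hz⟩ := exists_prime_orderOf_dvd_card' (G := ↥Z) 5 (by rw [hZ60]; norm_num)
  have hzo : orderOf (z : ↥C.K) = 5 := by rw [Subgroup.orderOf_coe, hz]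
  -- `f` as an element of `K`
  let f' : ↥C.K := ⟨C.f, C.hfK⟩
  have hfo : orderOf f' = 5 := by
    rw [← Subgroup.orderOf_coe]
    exact C.hf
  -- Sylow subgroups
  have hpz : IsPGroup 5 (Subgroup.zpowers (z : ↥C.K)) :=
    IsPGroup.of_card (n := 1) (by rw [Nat.card_zpowers, hzo, pow_one])
  have hpf : IsPGroup 5 (Subgroup.zpowers f') :=
    IsPGroup.of_card (n := 1) (by rw [Nat.card_zpowers, hfo, pow_one])
  obtain ⟨P, hP⟩ := hpz.exists_le_sylow
  obtain ⟨Q, hQ⟩ := hpf.exists_le_sylow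
  have hPeq : Subgroup.zpowers (z : ↥C.K) = (P : Subgroup ↥C.K) :=
    sylow5_eq_of_card C.cardK _ (by rw [Nat.card_zpowers, hzo]) P hP
  obtain ⟨γ, hγ⟩ := MulAction.exists_smul_eq ↥C.K P Q
  have hfmem : f' ∈ MulAut.conj γ • Z := by
    have h1 : f' ∈ (Q : Subgroup ↥C.K) := hQ (Subgroup.mem_zpowers f')
    rw [← hγ, Sylow.coe_subgroup_smul, ← hPeq] at h1
    have hle : MulAut.conj γ • Subgroup.zpowers (z : ↥C.K) ≤ MulAut.conj γ • Z := by
      apply Subgroup.pointwise_smul_le_pointwise_smul_iff.mpr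
      rw [Subgroup.zpowers_le]
      exact z.2
    exact hle h1
  -- the subgroup `X₁`
  refine ⟨(MulAut.conj γ • Z).map C.K.subtype, ?_, ?_, ?_, ?_⟩
  · exact Subgroup.map_subtype_le _
  · exact Subgroup.mem_map.mpr ⟨f', hfmem, rfl⟩
  · exact ⟨((Subgroup.equivMapOfInjective _ C.K.subtype (Subgroup.subtype_injective _)).symm.trans
      (Subgroup.equivSMul (MulAut.conj γ) Z).symm).trans eZ⟩
  · intro h
    apply hZ γ
    rw [← h]
    unfold Subgroup.subgroupOf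
    rw [Subgroup.comap_map_eq_self_of_injective (Subgroup.subtype_injective _)]

end Cfsg.Agent.Lib.Helper48.M11U
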